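import Cfsg.Agent.Involutions.BaerSuzuki

/-!
# THEOREM FOUR-W (helper339 #22614), part 1: the situation

`FW T B p` : `H` acts on `W` and on `M = W / R` (`p : W → M` onto, equivariant, `H` trivial on `R = ker p`), faithful on `M`,
`O₂(H) = 1`, `T` a 2-group with `C_W(T) ≤ R`, `B` elementary abelian of order 4, normalised by `T`, quadratic on `W`,
`C_M(b) = C_M(B) =: C` for `b ∈ B#`, `|M : C| = 4`, `N_H(C) ≤ N_H(B)`.

`FW.nondeg` : for `1 ≠ z ∈ B` some `w` with `p w ∈ C` is moved by `z`.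

`Pr B g` : `g` of odd order `≠ 1` inverted by `b ∈ B#`.
-/

set_option autoImplicit false
set_option linter.style.haveILetI false

namespace Cfsg.Agent.Omega.FOne.FourW

open Subgroup

variable {H W M : Type*} [Group H] [AddCommGroup W] [DistribMulAction H W] [AddCommGroup M] [DistribMulAction H M]

/-- the fixed points of `B` on `M` -/
def cm (M : Type*) [AddCommGroup M] [DistribMulAction H M] (B : Subgroup H) : AddSubgroup M where
  carrier := {m | ∀ b ∈ B, b • m = m}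
  zero_mem' := fun b _ => smul_zero b
  add_mem' := fun {x y} hx hy b hb => by rw [smul_add, hx b hb, hy b hb]
  neg_mem' := fun {x} hx b hb => by rw [smul_neg, hx b hb]

theorem mem_cm {B : Subgroup H} {m : M} : m ∈ cm M B ↔ ∀ b ∈ B, b • m = m := Iff.rfl

theorem ex_ne {α : Type*} [Finite α] (h : 1 < Nat.card α) (a : α) : ∃ b : α, b ≠ a := by
  have := Finite.one_lt_card_iff_nontrivial.1 h
  exact exists_ne a

/-- the situation of THEOREM FOUR-W -/
structure FW (T B : Subgroup H) (p : W →+ M) : Prop where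
  two : ∀ w : W, w + w = 0
  eqv : ∀ (x : H) (w : W), p (x • w) = x • p w
  surj : Function.Surjective p
  fixR : ∀ w : W, p w = 0 → ∀ x : H, x • w = w
  faith : ∀ x : H, (∀ m : M, x • m = m) → x = 1
  core : ∀ N : Subgroup H, N.Normal → IsPGroup 2 N → N = ⊥
  T2 : IsPGroup 2 T
  fixT : ∀ w : W, (∀ t ∈ T, t • w = w) → p w = 0
  TB : ∀ t ∈ T, ∀ b ∈ B, t * b * t⁻¹ ∈ B
  card : Nat.card B = 4
  sq : ∀ b ∈ B, b * b = 1
  quad : ∀ a ∈ B, ∀ b ∈ B, ∀ w : W, b • (a • w + w) = a • w + w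
  flat : ∀ b ∈ B, b ≠ 1 → ∀ m : M, b • m = m → m ∈ cm M B
  idx : (cm M B).index = 4
  nc : ∀ x : H, (∀ m ∈ cm M B, x • m ∈ cm M B) → ∀ b ∈ B, x⁻¹ * b * x ∈ B

namespace FW

variable {T B : Subgroup H} {p : W →+ M}

section basic

theorem inv (h : FW T B p) {b : H} (hb : b ∈ B) : b⁻¹ = b := inv_eq_of_mul_eq_one_left (h.sq b hb)

theorem comm (h : FW T B p) {a b : H} (ha : a ∈ B) (hb : b ∈ B) : a * b = b * a := by
  have h1 := h.inv (B.mul_mem ha hb)
  rw [mul_inv_rev, h.inv ha, h.inv hb] at h1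
  exact h1.symm

theorem twoM (h : FW T B p) (m : M) : m + m = 0 := by
  obtain ⟨w, rfl⟩ := h.surj m
  rw [← map_add, h.two, map_zero]

theorem negM (h : FW T B p) (m : M) : -m = m := neg_eq_of_add_eq_zero_left (h.twoM m)

theorem negW (h : FW T B p) (w : W) : -w = w := neg_eq_of_add_eq_zero_left (h.two w)

theorem quadM (h : FW T B p) {a b : H} (ha : a ∈ B) (hb : b ∈ B) (m : M) : b • (a • m + m) = a • m + m := by
  obtain ⟨w, rfl⟩ := h.surj m
  rw [← h.eqv, ← map_add, ← h.eqv, h.quad a ha b hb]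

theorem mem_of_sub (h : FW T B p) {a : H} (ha : a ∈ B) (m : M) : a • m + m ∈ cm M B :=
  fun _ hb => h.quadM ha hb m

theorem smul_sq {a : H} (ha : a * a = 1) (m : M) : a • (a • m) = m := by rw [← mul_smul, ha, one_smul]

theorem smul_sqW {a : H} (ha : a * a = 1) (m : W) : a • (a • m) = m := by rw [← mul_smul, ha, one_smul]

/-- `κ` is nondegenerate on `C × B` : `1 ≠ z ∈ B` moves some `w` with `p w ∈ C`. -/
theorem nondeg [Finite H] [Finite W] (h : FW T B p) {z : H} (hz : z ∈ B) (hz1 : z ≠ 1) :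
    ∃ w : W, p w ∈ cm M B ∧ z • w ≠ w := by
  by_contra hcon
  push Not at hcon
  -- the kernel of `κ` on `B`
  let K : Subgroup H :=
    { carrier := {b | b ∈ B ∧ ∀ w : W, p w ∈ cm M B → b • w = w}
      one_mem' := ⟨B.one_mem, fun w _ => one_smul H w⟩
      mul_mem' := fun {x y} hx hy => ⟨B.mul_mem hx.1 hy.1, fun w hw => by rw [mul_smul, hy.2 w hw, hx.2 w hw]⟩
      inv_mem' := fun {x} hx => ⟨B.inv_mem hx.1, fun w hw => by rw [inv_smul_eq_iff, hx.2 w hw]⟩ }
  have hK : ∀ {b : H}, b ∈ K ↔ b ∈ B ∧ ∀ w : W, p w ∈ cm M B → b • w = w := Iff.rfl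
  have hKT : ∀ t ∈ T, ∀ b ∈ K, t * b * t⁻¹ ∈ K := by
    intro t ht b hb
    refine ⟨h.TB t ht b hb.1, fun w hw => ?_⟩
    have h1 : p (t⁻¹ • w) ∈ cm M B := by
      rw [h.eqv]
      intro a ha
      have h2 := hw (t * a * t⁻¹) (h.TB t ht a ha)
      rw [mul_smul, mul_smul] at h2
      rw [eq_inv_smul_iff]
      exact h2
    rw [mul_smul, mul_smul, hb.2 _ h1, smul_inv_smul]
  have hKne : K ≠ ⊥ := fun h1 => hz1 (by
    have : z ∈ K := ⟨hz, hcon⟩
    rw [h1] at this
    exact mem_bot.1 this)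
  -- `T` acts on `K` by conjugation and fixes some `c ≠ 1`
  have hK2 : IsPGroup 2 K := by
    intro x
    refine ⟨1, Subtype.ext ?_⟩
    have := h.sq x x.2.1
    simpa [pow_two] using this
  letI : MulAction T K :=
    { smul := fun t b => ⟨t * b * (t : H)⁻¹, hKT t t.2 b b.2⟩
      one_smul := fun b => Subtype.ext (by
        change (((1 : T) : H) * b * ((1 : T) : H)⁻¹) = b
        simp)
      mul_smul := fun s t b => Subtype.ext (by
        change (((s * t : T) : H) * b * ((s * t : T) : H)⁻¹) = s * (t * b * (t : H)⁻¹) * (s : H)⁻¹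
        rw [Subgroup.coe_mul]
        group) }
  have hsm : ∀ (t : T) (b : K), ((t • b : K) : H) = t * b * (t : H)⁻¹ := fun _ _ => rfl
  obtain ⟨c, hc, hc1⟩ : ∃ c : K, (∀ t ∈ T, t * c * t⁻¹ = (c : H)) ∧ c ≠ 1 := by
    have h1 := (h.T2).card_modEq_card_fixedPoints (α := K)
    obtain ⟨n, hn⟩ := IsPGroup.iff_card.1 hK2
    have hn0 : n ≠ 0 := by
      rintro rfl
      rw [pow_zero] at hn
      exact hKne ((Subgroup.card_eq_one).1 hn)
    have h2 : 2 ∣ Nat.card (MulAction.fixedPoints T K) := by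
      have h3 : 2 ∣ Nat.card K := hn ▸ dvd_pow_self 2 hn0
      exact (Nat.modEq_zero_iff_dvd).1 (h1.symm.trans ((Nat.modEq_zero_iff_dvd).2 h3))
    have h4 : (1 : K) ∈ MulAction.fixedPoints T K := fun t => Subtype.ext (by rw [hsm]; simp)
    have h5 : 0 < Nat.card (MulAction.fixedPoints T K) := Nat.card_pos_iff.2 ⟨⟨⟨1, h4⟩⟩, inferInstance⟩
    have h6 : 1 < Nat.card (MulAction.fixedPoints T K) := by
      obtain ⟨k, hk⟩ := h2
      omega
    haveI : Finite (MulAction.fixedPoints T K) := inferInstance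
    obtain ⟨⟨c, hc⟩, hc1⟩ := ex_ne h6 (⟨1, h4⟩ : MulAction.fixedPoints T K)
    refine ⟨c, fun t ht => ?_, fun h7 => hc1 (Subtype.ext h7)⟩
    have := congrArg Subtype.val (hc ⟨t, ht⟩)
    rwa [hsm] at this
  -- `[W, c]` is a nonzero `T`-invariant group
  let U : AddSubgroup W :=
    { carrier := {v | ∃ w : W, v = (c : H) • w + w}
      zero_mem' := ⟨0, by rw [smul_zero, add_zero]⟩
      add_mem' := by
        rintro _ _ ⟨x, rfl⟩ ⟨y, rfl⟩
        exact ⟨x + y, by rw [smul_add]; abel⟩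
      neg_mem' := by
        rintro _ ⟨x, rfl⟩
        exact ⟨-x, by rw [smul_neg]; abel⟩ }
  have hU : ∀ {v : W}, v ∈ U ↔ ∃ w : W, v = (c : H) • w + w := Iff.rfl
  have hUT : ∀ t ∈ T, ∀ v ∈ U, t • v ∈ U := by
    rintro t ht _ ⟨w, rfl⟩
    refine ⟨t • w, ?_⟩
    have h1 : t * (c : H) = c * t := by
      have := hc t ht
      rw [mul_inv_eq_iff_eq_mul] at this
      exact this
    rw [smul_add, ← mul_smul, ← mul_smul, h1]
  letI : MulAction T U :=
    { smul := fun t v => ⟨(t : H) • (v : W), hUT t t.2 v v.2⟩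
      one_smul := fun v => Subtype.ext (one_smul H (v : W))
      mul_smul := fun s t v => Subtype.ext (mul_smul (s : H) (t : H) (v : W)) }
  have hsm' : ∀ (t : T) (v : U), ((t • v : U) : W) = (t : H) • (v : W) := fun _ _ => rfl
  obtain ⟨v, hv, hv0⟩ : ∃ v ∈ U, (∀ t ∈ T, t • v = v) ∧ v ≠ 0 := by
    have h1 := (h.T2).card_modEq_card_fixedPoints (α := U)
    have hU2 : ∀ v : U, v + v = 0 := fun v => Subtype.ext (h.two v)
    have hU1 : 1 < Nat.card U := by
      by_contra hle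
      have h3 : ∀ v : U, v = 0 := by
        haveI : Subsingleton U := (Finite.card_le_one_iff_subsingleton).1 (by omega)
        exact fun v => Subsingleton.elim _ _
      refine hc1 (Subtype.ext (h.faith c fun m => ?_))
      obtain ⟨w, rfl⟩ := h.surj m
      have h4 : (c : H) • w + w = 0 := congrArg Subtype.val (h3 ⟨_, w, rfl⟩)
      have h5 : (c : H) • w = w := by rw [eq_neg_of_add_eq_zero_left h4, h.negW]
      rw [← h.eqv, h5]
    have h2 : 2 ∣ Nat.card U := by
      obtain ⟨v, hv⟩ := ex_ne hU1 (0 : U)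
      have h3 : addOrderOf v = 2 := by
        refine addOrderOf_eq_prime ?_ hv
        rw [two_nsmul, hU2]
      rw [← h3]
      exact addOrderOf_dvd_natCard v
    have h2' : 2 ∣ Nat.card (MulAction.fixedPoints T U) :=
      (Nat.modEq_zero_iff_dvd).1 (h1.symm.trans ((Nat.modEq_zero_iff_dvd).2 h2))
    have h4 : (0 : U) ∈ MulAction.fixedPoints T U := fun t => Subtype.ext (by rw [hsm']; exact smul_zero _)
    have h5 : 0 < Nat.card (MulAction.fixedPoints T U) := Nat.card_pos_iff.2 ⟨⟨⟨0, h4⟩⟩, inferInstance⟩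
    have h6 : 1 < Nat.card (MulAction.fixedPoints T U) := by
      obtain ⟨k, hk⟩ := h2'
      omega
    obtain ⟨⟨v, hv⟩, hv1⟩ := ex_ne h6 (⟨0, h4⟩ : MulAction.fixedPoints T U)
    refine ⟨v, v.2, fun t ht => ?_, fun h7 => hv1 (Subtype.ext (Subtype.ext h7))⟩
    have := congrArg Subtype.val (hv ⟨t, ht⟩)
    rwa [hsm'] at this
  obtain ⟨w, hw⟩ := hv
  have h1 : p v = 0 := h.fixT v hv0.1
  rw [hw, map_add, h.eqv] at h1
  have h2 : (c : H) • p w = p w := by rw [eq_neg_of_add_eq_zero_left h1, h.negM]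
  have h3 : p w ∈ cm M B := h.flat c c.2.1 (fun h7 => hc1 (Subtype.ext h7)) _ h2
  have h4 := c.2.2 w h3
  exact hv0.2 (by rw [hw, h4, h.two])

end basic

end FW

end Cfsg.Agent.Omega.FOne.FourW
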