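import Mathlib

/-!
# THEOREM FOUR-W (helper339 #22614, #22793), part 3: endomorphisms of a fours group

`V2 = F₂²`, `fm a b` the endomorphism with columns `a`, `b`, `PB f (x, z) = (x + f z, x + z + f z)`.
-/

set_option autoImplicit false

namespace Cfsg.Agent.Omega.FOne.FourW

/-- `F₂²` -/
abbrev V2 := Fin 2 → ZMod 2

/-- the endomorphism with columns `a`, `b` -/
def fm (a b : V2) (v : V2) : V2 := fun i => v 0 * a i + v 1 * b i

/-- the action of `c a` on `M / D` -/
def PB (f : V2 → V2) (v : V2 × V2) : V2 × V2 := (v.1 + f v.2, v.1 + v.2 + f v.2)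

set_option maxRecDepth 100000 in
theorem fm_sing : ∀ a b : V2, (∃ n : V2, n ≠ 0 ∧ fm a b n = 0) →
    (∀ n, fm a b (fm a b n) = fm a b n) ∨ (∀ n, fm a b (fm a b n) = 0) := by
  decide

set_option maxRecDepth 100000 in
theorem it_zero : ∀ v : V2 × V2, PB (fun _ => 0) (PB (fun _ => 0) v) = v := by
  decide

set_option maxRecDepth 100000 in
theorem it_nil : ∀ a b : V2, (∀ n, fm a b (fm a b n) = 0) → ∀ v : V2 × V2, (PB (fm a b))^[4] v = v := by
  decide

set_option maxRecDepth 100000 in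
theorem it_idem : ∀ a b : V2, (∀ n, fm a b (fm a b n) = fm a b n) → ∀ v : V2 × V2, (PB (fm a b))^[6] v = v := by
  decide

set_option maxRecDepth 100000 in
theorem it_inv : ∀ a b : V2, (∀ n, fm a b (fm a b n) = n) → ∀ v : V2 × V2, (PB (fm a b))^[6] v = v := by
  decide

set_option maxRecDepth 100000 in
theorem it_inv3 : ∀ a b : V2, (∀ n, fm a b (fm a b n) = n) →
    ∀ v : V2 × V2, (PB (fm a b))^[3] v = (fm a b v.1, fm a b v.2) := by
  decide

set_option maxRecDepth 100000 in
theorem it_five : ∀ a b : V2, (∀ n, fm a b (fm a b n) = fm a b n + n) → ∀ v : V2 × V2, (PB (fm a b))^[5] v = v := by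
  decide

/-- the inputs of `fm_three`, decidable -/
def Bad (a b c d : V2) : Prop :=
  (∃ n, n ≠ 0 ∧ fm a b n = 0) ∨ (∃ n, n ≠ 0 ∧ fm c d n = 0) ∨ (∃ n, n ≠ 0 ∧ fm a b n + fm c d n = 0) ∨
    ((∀ n, fm a b (fm a b n) = n) ∧ ∃ n, fm a b n ≠ n)

instance (a b c d : V2) : Decidable (Bad a b c d) := by unfold Bad; infer_instance

set_option maxRecDepth 100000 in
theorem fm_three : ∀ a b c d : V2, Bad a b c d ∨ (∀ n, fm c d n = n) ∨
    (∀ n, fm c d (fm c d n) = fm c d n + n) := by
  decide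

/-- an additive map of `F₂²` is some `fm` -/
theorem exists_fm (f : V2 →+ V2) : ∃ a b : V2, ∀ v, f v = fm a b v := by
  refine ⟨f (Pi.single 0 1), f (Pi.single 1 1), fun v => ?_⟩
  have h1 : v = v 0 • (Pi.single 0 1 : V2) + v 1 • (Pi.single 1 1 : V2) := by
    ext i
    fin_cases i <;> simp
  have h2 : ∀ (r : ZMod 2) (w : V2), f (r • w) = r • f w := fun r w => by
    rw [← AddMonoidHom.coe_toZModLinearMap 2 f, map_smul]
  conv_lhs => rw [h1]
  rw [map_add, h2, h2]
  rfl

/-- an elementary abelian group of order 4 -/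
theorem exists_equiv {N : Type*} [AddCommGroup N] (two : ∀ n : N, n + n = 0) (h4 : Nat.card N = 4) :
    Nonempty (N ≃+ V2) := by
  let _ : Module (ZMod 2) N := AddCommGroup.zmodModule (fun n => by rw [two_nsmul, two])
  have : Finite N := Nat.finite_of_card_ne_zero (by rw [h4]; norm_num)
  have h5 : Module.finrank (ZMod 2) N = 2 := by
    have h6 := Module.natCard_eq_pow_finrank (K := ZMod 2) (V := N)
    rw [h4, Nat.card_zmod, show (4 : ℕ) = 2 ^ 2 by norm_num] at h6
    exact (Nat.pow_right_injective le_rfl h6).symm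
  exact ⟨((Module.finBasisOfFinrankEq (ZMod 2) N h5).equivFun).toAddEquiv⟩

end Cfsg.Agent.Omega.FOne.FourW
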