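import Cfsg.Agent.Omega.FOne.FourW.Pair
import Cfsg.Agent.Omega.FOne.FourW.Mat

/-!
# THEOREM FOUR-W (helper339 #22614, #22793; helper503 #22609), part 4

`FW.false : FW T B p → False`.
-/

set_option autoImplicit false

namespace Cfsg.Agent.Omega.FOne.FourW

open Subgroup

variable {H W M : Type*} [Group H] [AddCommGroup W] [DistribMulAction H W] [AddCommGroup M] [DistribMulAction H M]

namespace Pr

variable {T B : Subgroup H} {p : W →+ M} {b γ : H}

/-- `T_a = [[·, c], a]` -/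
theorem gm_mem (h : FW T B p) {a : H} (ha : a ∈ B) (m : M) : gm M a m ∈ cm M B := h.mem_of_sub ha m

theorem gm_mul (h : FW T B p) {a a' : H} (ha : a ∈ B) (ha' : a' ∈ B) (m : M) :
    gm M (a * a') m = gm M a m + gm M a' m := by
  have h1 : a • (a' • m + m) = a' • m + m := h.quadM ha' ha m
  rw [smul_add] at h1
  have h2 : a • (a' • m) = a' • m + m + a • m := by
    have := congrArg (fun t => t + a • m) h1
    simpa only [add_assoc, h.twoM, add_zero] using this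
  rw [gm_apply, gm_apply, gm_apply, mul_smul, h2]
  abel

/-- `M → M / C_E ≅ F₂²` -/
theorem exists_q [Finite M] (h : FW T B p) : ∃ q : M →+ V2, Function.Surjective q ∧ ∀ m : M, q m = 0 ↔ m ∈ ce M B γ := by
  have two : ∀ n : M ⧸ ce M B γ, n + n = 0 := by
    intro n
    obtain ⟨m, rfl⟩ := QuotientAddGroup.mk_surjective n
    rw [← QuotientAddGroup.mk_add, h.twoM, QuotientAddGroup.mk_zero]
  obtain ⟨e⟩ := exists_equiv two (by rw [← AddSubgroup.index, idxE h])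
  refine ⟨e.toAddMonoidHom.comp (QuotientAddGroup.mk' (ce M B γ)), ?_, fun m => ?_⟩
  · exact e.surjective.comp (QuotientAddGroup.mk'_surjective _)
  · change e (QuotientAddGroup.mk m) = 0 ↔ _
    rw [map_eq_zero_iff e e.injective, QuotientAddGroup.eq_zero_iff]

variable {q : M →+ V2}

/-- `T_a` on `M / C_E` -/
theorem exists_fm' [Finite M] (h : FW T B p) (r : Pr B b γ) (hq : Function.Surjective q)
    (hq0 : ∀ m : M, q m = 0 ↔ m ∈ ce M B γ) (a : H) :
    ∃ A A' : V2, ∀ m : M, q (gm M a (gm M (γ⁻¹ * b * γ) m)) = fm A A' (q m) := by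
  set f : M →+ V2 := q.comp ((gm M a).comp (gm M (γ⁻¹ * b * γ))) with hf
  have h1 : q.ker ≤ f.ker := by
    intro m hm
    rw [AddMonoidHom.mem_ker] at hm ⊢
    have h2 := r.gm_ce h ((hq0 m).1 hm)
    change q (gm M a (gm M (γ⁻¹ * b * γ) m)) = 0
    rw [h2, map_zero, map_zero]
  let t : V2 →+ V2 := q.liftOfSurjective hq ⟨f, h1⟩
  obtain ⟨A, A', h2⟩ := exists_fm t
  refine ⟨A, A', fun m => ?_⟩
  rw [← h2]
  have h3 := AddMonoidHom.liftOfRightInverse_comp_apply q (Function.surjInv hq) (Function.rightInverse_surjInv hq)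
    ⟨f, h1⟩ m
  exact h3.symm

theorem smul_eq (h : FW T B p) (a : H) (m : M) : a • m = gm M a m + m := by
  rw [gm_apply, add_assoc, h.twoM, add_zero]

theorem step (h : FW T B p) (r : Pr B b γ) {a : H} (ha : a ∈ B) {x z : M} (hx : x ∈ cm M B) :
    ((γ⁻¹ * b * γ) * a) • (x + gm M (γ⁻¹ * b * γ) z) =
      (x + gm M a (gm M (γ⁻¹ * b * γ) z)) +
        gm M (γ⁻¹ * b * γ) (x + z + gm M a (gm M (γ⁻¹ * b * γ) z)) := by
  have h1 : (γ⁻¹ * b * γ) • (gm M (γ⁻¹ * b * γ) z) = gm M (γ⁻¹ * b * γ) z := smul_ce r.hb (quadE h r.hb z)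
  rw [mul_smul, smul_add, hx a ha, smul_eq h a (gm M (γ⁻¹ * b * γ) z), smul_add, smul_add, h1,
    smul_eq h (γ⁻¹ * b * γ) x, smul_eq h (γ⁻¹ * b * γ) (gm M a (gm M (γ⁻¹ * b * γ) z)), map_add, map_add]
  abel

/-- the action of `(c a)^k` -/
theorem pow_rep [Finite M] (h : FW T B p) (r : Pr B b γ) {a : H} (ha : a ∈ B) {A A' : V2}
    (hA : ∀ m : M, q (gm M a (gm M (γ⁻¹ * b * γ) m)) = fm A A' (q m)) {x z : M} (hx : x ∈ cm M B)
    (hz : z ∈ cm M B) (k : ℕ) : ∃ x' ∈ cm M B, ∃ z' ∈ cm M B,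
      (((γ⁻¹ * b * γ) * a) ^ k) • (x + gm M (γ⁻¹ * b * γ) z) = x' + gm M (γ⁻¹ * b * γ) z' ∧
        (q x', q z') = (PB (fm A A'))^[k] (q x, q z) := by
  induction k with
  | zero => exact ⟨x, hx, z, hz, by rw [pow_zero, one_smul], rfl⟩
  | succ k ih =>
    obtain ⟨x', hx', z', hz', h1, h2⟩ := ih
    refine ⟨x' + gm M a (gm M (γ⁻¹ * b * γ) z'), (cm M B).add_mem hx' (gm_mem h ha _),
      x' + z' + gm M a (gm M (γ⁻¹ * b * γ) z'),
      (cm M B).add_mem ((cm M B).add_mem hx' hz') (gm_mem h ha _), ?_, ?_⟩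
    · rw [pow_succ', mul_smul, h1, r.step h ha hx']
    · rw [Function.iterate_succ', Function.comp, ← h2, PB, map_add, map_add, map_add, hA]

/-- `c a` fixes `D` -/
theorem ca_dd {a : H} (r : Pr B b γ) (ha : a ∈ B) {m : M} (hm : m ∈ dd M B γ) (k : ℕ) :
    (((γ⁻¹ * b * γ) * a) ^ k) • m = m := by
  induction k with
  | zero => rw [pow_zero, one_smul]
  | succ k ih => rw [pow_succ, mul_smul, mul_smul, hm.1 a ha, smul_ce r.hb hm.2, ih]

theorem sub_mem_ce (h : FW T B p) (hq0 : ∀ m : M, q m = 0 ↔ m ∈ ce M B γ) {x y : M} (hxy : q x = q y) :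
    x + y ∈ ce M B γ := by
  rw [← hq0, map_add, hxy, ← map_add, h.twoM, map_zero]

theorem pow_eq_one [Finite H] [Finite W] [Finite M] (h : FW T B p) (r : Pr B b γ)
    (hq0 : ∀ m : M, q m = 0 ↔ m ∈ ce M B γ) {a : H} (ha : a ∈ B) {A A' : V2}
    (hA : ∀ m : M, q (gm M a (gm M (γ⁻¹ * b * γ) m)) = fm A A' (q m)) {k : ℕ}
    (hk : ∀ v : V2 × V2, (PB (fm A A'))^[k] v = v) : ((γ⁻¹ * b * γ) * a) ^ k = 1 := by
  refine r.eq_one h (fun m hm => r.ca_dd ha hm k) fun m => ?_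
  obtain ⟨x, hx, z, hz, rfl⟩ := r.exists_rep h m
  obtain ⟨x', hx', z', hz', h1, h2⟩ := r.pow_rep h ha hA hx hz k
  rw [hk] at h2
  have h3 : q x' = q x := congrArg Prod.fst h2
  have h4 : q z' = q z := congrArg Prod.snd h2
  have h5 : gm M (γ⁻¹ * b * γ) (z' + z) = 0 := r.gm_ce h (sub_mem_ce h hq0 h4)
  rw [map_add] at h5
  rw [h1, show x' + gm M (γ⁻¹ * b * γ) z' + (x + gm M (γ⁻¹ * b * γ) z) =
    (x' + x) + (gm M (γ⁻¹ * b * γ) z' + gm M (γ⁻¹ * b * γ) z) by abel, h5, add_zero]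
  exact ⟨(cm M B).add_mem hx' hx, sub_mem_ce h hq0 h3⟩

/-- `x ∈ C`, `T_a x = 0` ==> `x ∈ D` -/
theorem mem_of_zero (h : FW T B p) (r : Pr B b γ) {a : H} (ha : a ∈ B) (ha1 : a ≠ 1) {x : M} (hx : x ∈ cm M B)
    (h0 : gm M a (gm M (γ⁻¹ * b * γ) x) = 0) : x ∈ dd M B γ := by
  refine r.mem_dd h hx ⟨h.flat a ha ha1 _ ?_, quadE h r.hb x⟩
  have h1 := smul_eq h a (gm M (γ⁻¹ * b * γ) x)
  rw [h0, zero_add] at h1
  exact h1

/-- **(4')** `T_a` is injective on `M / C_E` for `a ∈ B#`. -/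
theorem inj [Finite H] [Finite W] [Finite M] (h : FW T B p) (r : Pr B b γ) (hq : Function.Surjective q)
    (hq0 : ∀ m : M, q m = 0 ↔ m ∈ ce M B γ) {a : H} (ha : a ∈ B) (ha1 : a ≠ 1) {A A' : V2}
    (hA : ∀ m : M, q (gm M a (gm M (γ⁻¹ * b * γ) m)) = fm A A' (q m)) (n : V2) (hn : fm A A' n = 0) : n = 0 := by
  by_contra hne
  have exC : ∀ n : V2, ∃ x ∈ cm M B, q x = n := by
    intro n
    obtain ⟨m, rfl⟩ := hq n
    obtain ⟨x, hx, z, hz, rfl⟩ := r.exists_rep h m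
    refine ⟨x, hx, ?_⟩
    rw [map_add, (hq0 (gm M (γ⁻¹ * b * γ) z)).2 (quadE h r.hb z), add_zero]
  obtain ⟨x, hx, rfl⟩ := exC n
  -- `d = T x ∈ D`
  have hd : gm M a (gm M (γ⁻¹ * b * γ) x) ∈ dd M B γ :=
    ⟨gm_mem h ha _, (hq0 _).1 (by rw [hA, hn])⟩
  set d := gm M a (gm M (γ⁻¹ * b * γ) x) with hdd
  have hd0 : d ≠ 0 := fun h0 => hne ((hq0 x).2 (r.mem_of_zero h ha ha1 hx h0).2)
  have sq1 : ∀ {y e : M}, y ∈ cm M B → gm M a (gm M (γ⁻¹ * b * γ) y) = e → e ∈ dd M B γ →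
      (((γ⁻¹ * b * γ) * a) ^ 2) • y = y + e := by
    intro y e hy he hed
    have h1 := r.step h ha (x := y) (z := 0) hy
    simp only [map_zero, add_zero] at h1
    rw [pow_two, mul_smul, h1, r.step h ha hy, he, r.gm_ce h ((ce M B γ).add_mem (x := y + y) (by
      rw [h.twoM]; exact (ce M B γ).zero_mem) hed.2), add_zero]
  have hx2 := sq1 hx hdd.symm hd
  rcases fm_sing A A' ⟨q x, hne, hn⟩ with h1 | h1
  · have h6 := r.pow_eq_one h hq0 ha hA (it_idem A A' h1)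
    have h7 : (((γ⁻¹ * b * γ) * a) ^ 2) ^ 3 = 1 := by rw [← pow_mul]; exact h6
    exact hd0 (odd_add hx2 (r.ca_dd ha hd 2) (h.twoM d) (by decide) h7)
  · have h4 := r.pow_eq_one h hq0 ha hA (it_nil A A' h1)
    -- `T² y ∈ D`, `p⁴ y = y + T² y`
    have h5 : ∀ y ∈ cm M B, gm M a (gm M (γ⁻¹ * b * γ) y) ∈ dd M B γ := by
      intro y hy
      set y' := gm M a (gm M (γ⁻¹ * b * γ) y) with hy'
      have hy'C : y' ∈ cm M B := gm_mem h ha _
      refine r.mem_of_zero h ha ha1 hy'C ?_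
      set e := gm M a (gm M (γ⁻¹ * b * γ) y') with he
      have heD : e ∈ dd M B γ := ⟨gm_mem h ha _, (hq0 _).1 (by rw [he, hA, hy', hA, h1])⟩
      have e0 : gm M (γ⁻¹ * b * γ) e = 0 := r.gm_ce h heD.2
      have p1 : (((γ⁻¹ * b * γ) * a) ^ 2) • y = y + y' + gm M (γ⁻¹ * b * γ) y' := by
        have h1 := r.step h ha (x := y) (z := 0) hy
        simp only [map_zero, add_zero] at h1
        rw [pow_two, mul_smul, h1, r.step h ha hy, ← hy', h.twoM, zero_add]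
      have p2 : (((γ⁻¹ * b * γ) * a) ^ 2) • y' = y' + e := sq1 hy'C he.symm heD
      have p3 : (((γ⁻¹ * b * γ) * a) ^ 2) • (gm M (γ⁻¹ * b * γ) y') = gm M (γ⁻¹ * b * γ) y' := by
        have h1 := r.step h ha (x := 0) (z := y') (cm M B).zero_mem
        simp only [zero_add, ← he] at h1
        rw [pow_two, mul_smul, h1, r.step h ha heD.1, map_add (gm M (γ⁻¹ * b * γ)) y' e, e0, add_zero, ← he,
          h.twoM, zero_add, show e + (y' + e) + e = y' + e + (e + e) by abel, h.twoM, add_zero, map_add, e0, add_zero]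
      have p4 : (((γ⁻¹ * b * γ) * a) ^ 4) • y = y + e := by
        rw [show 4 = 2 + 2 by rfl, pow_add, mul_smul, p1, smul_add, smul_add, p1, p2, p3]
        rw [show y + y' + gm M (γ⁻¹ * b * γ) y' + (y' + e) + gm M (γ⁻¹ * b * γ) y' =
          y + e + (y' + y') + (gm M (γ⁻¹ * b * γ) y' + gm M (γ⁻¹ * b * γ) y') by abel, h.twoM, h.twoM, add_zero,
          add_zero]
      rw [h4, one_smul] at p4
      exact left_eq_add.1 p4
    have h6 : ∀ n : V2, fm A A' n = 0 := by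
      intro n
      obtain ⟨y, hy, rfl⟩ := exC n
      rw [← hA]
      exact (hq0 _).2 (h5 y hy).2
    have h7 : (PB (fm A A')) = PB (fun _ => 0) := by
      funext v
      simp only [PB, h6]
    have h8 := r.pow_eq_one h hq0 ha hA (k := 2) (fun v => by
      rw [h7]
      exact it_zero v)
    rw [h8, one_smul] at hx2
    exact hd0 (left_eq_add.1 hx2)

/-- an element of odd order fixing `D` fixes the preimage of `D` -/
theorem kfix (h : FW T B p) {s : H} (hs : ∀ m ∈ dd M B γ, s • m = m) {k : ℕ} (hk : Odd k) (hsk : s ^ k = 1) {w : W}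
    (hw : p w ∈ dd M B γ) : s • w = w := by
  have h1 : p (s • w - w) = 0 := by rw [map_sub, h.eqv, hs _ hw, sub_self]
  have h2 : s • w = w + (s • w - w) := by abel
  have h3 : s • w - w = 0 := odd_add h2 (h.fixR _ h1 s) (h.two _) hk hsk
  exact sub_eq_zero.1 h3

theorem cb_pow (h : FW T B p) (r : Pr B b γ) : ((γ⁻¹ * b * γ) * b) ^ orderOf γ = 1 := by
  have h1 : (γ⁻¹ * b * γ) * b = (γ * γ)⁻¹ := by
    rw [r.g_sq h, mul_inv_rev, h.inv r.hb]
    congr 1
    rw [mul_inv_rev, mul_inv_rev, inv_inv, h.inv r.hb, mul_assoc]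
  rw [h1, inv_pow, ← sq, ← pow_mul, mul_comm, pow_mul, pow_orderOf_eq_one, one_pow, inv_one]

theorem false [Finite H] [Finite W] [Finite M] (h : FW T B p) (r : Pr B b γ) : False := by
  obtain ⟨q, hq, hq0⟩ := exists_q (γ := γ) h
  obtain ⟨a, ha, ha1, -, hba⟩ := exists_third h r.hb r.b1
  obtain ⟨A, A', hA⟩ := r.exists_fm' h hq hq0 b
  obtain ⟨C, C', hC⟩ := r.exists_fm' h hq hq0 a
  obtain ⟨E, E', hE⟩ := r.exists_fm' h hq hq0 (b * a)
  have hsum : ∀ n, fm A A' n + fm C C' n = fm E E' n := by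
    intro n
    obtain ⟨m, rfl⟩ := hq n
    rw [← hA, ← hC, ← hE, ← map_add, gm_mul h r.hb ha]
  have exC : ∀ n : V2, ∃ x ∈ cm M B, q x = n := by
    intro n
    obtain ⟨m, rfl⟩ := hq n
    obtain ⟨x, hx, z, hz, rfl⟩ := r.exists_rep h m
    refine ⟨x, hx, ?_⟩
    rw [map_add, (hq0 (gm M (γ⁻¹ * b * γ) z)).2 (quadE h r.hb z), add_zero]
  have hodd : ∃ k : ℕ, Odd k ∧ ((γ⁻¹ * b * γ) * a) ^ k = 1 := by
    rcases fm_three A A' C C' with h1 | h1 | h1
    · exfalso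
      rcases h1 with ⟨n, hn, h1⟩ | ⟨n, hn, h1⟩ | ⟨n, hn, h1⟩ | ⟨h1, n, hn⟩
      · exact hn (r.inj h hq hq0 r.hb r.b1 hA n h1)
      · exact hn (r.inj h hq hq0 ha ha1 hC n h1)
      · exact hn (r.inj h hq hq0 (B.mul_mem r.hb ha) hba hE n (by rw [← hsum]; exact h1))
      · have h6 := r.pow_eq_one h hq0 r.hb hA (it_inv A A' h1)
        have h7 : ((γ⁻¹ * b * γ) * b) ^ 3 = 1 := by
          rw [← orderOf_dvd_iff_pow_eq_one] at h6 ⊢
          have h8 := orderOf_dvd_of_pow_eq_one (r.cb_pow h)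
          have h9 : Nat.Coprime (orderOf ((γ⁻¹ * b * γ) * b)) 2 :=
            Nat.Coprime.coprime_dvd_left h8 r.odd.coprime_two_right
          exact h9.dvd_of_dvd_mul_left (by norm_num at h6 ⊢; exact h6)
        obtain ⟨x, hx, rfl⟩ := exC n
        obtain ⟨x', hx', z', hz', h10, h11⟩ := r.pow_rep h r.hb hA hx (cm M B).zero_mem 3
        rw [h7, one_smul, map_zero, add_zero] at h10
        rw [it_inv3 A A' h1] at h11
        have h12 : q z' = 0 := by
          have := congrArg Prod.snd h11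
          simp only [map_zero] at this
          rw [this]
          ext i
          simp [fm]
        rw [r.gm_ce h ((hq0 z').1 h12), add_zero] at h10
        have h13 := congrArg Prod.fst h11
        simp only at h13
        rw [← h10] at h13
        exact hn h13.symm
    · refine ⟨3, by decide, r.pow_eq_one h hq0 ha hC fun v => ?_⟩
      rw [it_inv3 C C' (fun n => by rw [h1, h1]), h1, h1]
    · exact ⟨5, by decide, r.pow_eq_one h hq0 ha hC (it_five C C' h1)⟩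
  obtain ⟨k, hk, hak⟩ := hodd
  obtain ⟨w, hw, hwn⟩ := r.exists_d h (B.mul_mem r.hb ha) hba
  apply hwn
  have h1 : ((γ⁻¹ * b * γ) * a) • w = w :=
    kfix h (fun m hm => by rw [mul_smul, hm.1 a ha, smul_ce r.hb hm.2]) hk hak hw
  have h2 : ((γ⁻¹ * b * γ) * b) • w = w :=
    kfix h (fun m hm => by rw [mul_smul, hm.1 b r.hb, smul_ce r.hb hm.2]) r.odd (r.cb_pow h) hw
  have h3 : a • w = b • w := by
    rw [mul_smul] at h1 h2
    exact smul_left_cancel _ (h1.trans h2.symm)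
  rw [mul_smul, h3, ← mul_smul, h.sq b r.hb, one_smul]

end Pr

/-- **THEOREM FOUR-W** -/
theorem FW.false [Finite H] [Finite W] {T B : Subgroup H} {p : W →+ M} (h : FW T B p) : False := by
  have : Finite M := Finite.of_surjective p h.surj
  have h1 : 1 < Nat.card B := by rw [h.card]; norm_num
  obtain ⟨⟨b, hb⟩, hb1⟩ := ex_ne h1 1
  have hb1' : b ≠ 1 := fun h2 => hb1 (Subtype.ext h2)
  obtain ⟨g, hg1, hgo, hgi⟩ := Involutions.BaerSuzuki.exists_odd_inverted b (h.sq b hb) (by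
    intro h2
    have h3 := h.core _ normalClosure_normal h2
    have h4 : b ∈ normalClosure {b} := subset_normalClosure rfl
    rw [h3] at h4
    exact hb1' (mem_bot.1 h4))
  exact Pr.false h ⟨hb, hb1', hgo, hg1, hgi⟩

end Cfsg.Agent.Omega.FOne.FourW
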