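import Cfsg.Agent.Omega.FOne.FourW.Base

/-!
# THEOREM FOUR-W (helper339 #22614), part 2: the pair `B`, `B^γ`

`Pr B b γ` : `b ∈ B#`, `γ ≠ 1` of odd order is inverted by `b`.  `c = γ⁻¹ b γ = b γ²`.

* `ce` : `C_E = C^γ = {m | γ m ∈ C}`, `dd` : `D = C ∩ C_E`;
* `exists_d` : every `z ∈ B#` moves some `w` with `p w ∈ D`;
* `comm_B`, `comm_E` : `x ∈ C_H(D)` with `x C ⊆ C` centralises `B`; with `x C_E ⊆ C_E` it centralises `B^γ`;
* `not_stab` : no `γ⁻¹ a γ ≠ 1` normalises `C`;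
* `relIndex` : `|C : D| = 4`;
* `eq_one` : `x ∈ C_H(D)` trivial on `M / D` is trivial;
* `mem_dd` : `x ∈ C`, `[x, c] ∈ D` ==> `x ∈ D`; `sup_eq` : `M = C + [C, c]`.
-/

set_option autoImplicit false
set_option linter.style.haveILetI false

namespace Cfsg.Agent.Omega.FOne.FourW

open Subgroup

variable {H W M : Type*} [Group H] [AddCommGroup W] [DistribMulAction H W] [AddCommGroup M] [DistribMulAction H M]

/-- `γ ≠ 1` of odd order inverted by `b ∈ B#` -/
structure Pr (B : Subgroup H) (b γ : H) : Prop where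
  hb : b ∈ B
  b1 : b ≠ 1
  odd : Odd (orderOf γ)
  ne : γ ≠ 1
  inv : b * γ * b⁻¹ = γ⁻¹

/-- `C_E` -/
def ce (M : Type*) [AddCommGroup M] [DistribMulAction H M] (B : Subgroup H) (γ : H) : AddSubgroup M :=
  (cm M B).comap (DistribSMul.toAddMonoidHom M γ)

theorem mem_ce {B : Subgroup H} {γ : H} {m : M} : m ∈ ce M B γ ↔ γ • m ∈ cm M B := Iff.rfl

/-- `D` -/
def dd (M : Type*) [AddCommGroup M] [DistribMulAction H M] (B : Subgroup H) (γ : H) : AddSubgroup M :=
  cm M B ⊓ ce M B γ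

theorem mem_dd_iff {B : Subgroup H} {γ : H} {m : M} : m ∈ dd M B γ ↔ m ∈ cm M B ∧ m ∈ ce M B γ := Iff.rfl

/-- `u x = x + d`, `u d = d`, `2 d = 0`, `u ^ n = 1`, `n` odd: `d = 0`. -/
theorem odd_add {V : Type*} [AddCommGroup V] [DistribMulAction H V] {u : H} {x d : V} (h1 : u • x = x + d)
    (h2 : u • d = d) (h3 : d + d = 0) {n : ℕ} (hn : Odd n) (hu : u ^ n = 1) : d = 0 := by
  obtain ⟨k, rfl⟩ := hn
  have h4 : ∀ j : ℕ, (u ^ (2 * j)) • x = x := by
    intro j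
    induction j with
    | zero => rw [mul_zero, pow_zero, one_smul]
    | succ j ih =>
      rw [show 2 * (j + 1) = 2 * j + 1 + 1 by ring, pow_succ, pow_succ, mul_smul, mul_smul, h1, smul_add, h1, h2,
        add_assoc, h3, add_zero, ih]
  have h5 : (u ^ (2 * k + 1)) • x = x + d := by
    rw [pow_succ', mul_smul, h4, h1]
  rw [hu, one_smul] at h5
  exact (left_eq_add.1 h5)

namespace Pr

variable {T B : Subgroup H} {p : W →+ M} {b γ : H}

theorem g_sq (h : FW T B p) (r : Pr B b γ) : γ * γ = b * (γ⁻¹ * b * γ) := by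
  have h1 : b * γ * b = γ⁻¹ := by
    have := r.inv
    rwa [h.inv r.hb] at this
  have h2 := h.sq b r.hb
  calc γ * γ = (b * b) * γ * (b * b) * γ := by rw [h2, one_mul, mul_one]
    _ = b * (b * γ * b * (b * γ)) := by group
    _ = b * (γ⁻¹ * b * γ) := by rw [h1, mul_assoc]

/-- `c` fixes `C_E`, the conjugates too -/
theorem smul_ce {a : H} (ha : a ∈ B) {m : M} (hm : m ∈ ce M B γ) : (γ⁻¹ * a * γ) • m = m := by
  rw [mul_smul, mul_smul, (mem_ce.1 hm) a ha, inv_smul_smul]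

theorem flatE (h : FW T B p) {a : H} (ha : a ∈ B) (ha1 : a ≠ 1) {m : M} (hm : (γ⁻¹ * a * γ) • m = m) :
    m ∈ ce M B γ := by
  rw [mul_smul, mul_smul, inv_smul_eq_iff] at hm
  exact h.flat a ha ha1 _ hm

theorem quadE (h : FW T B p) {a : H} (ha : a ∈ B) (m : M) : (γ⁻¹ * a * γ) • m + m ∈ ce M B γ := by
  rw [mem_ce, smul_add, mul_smul, mul_smul, smul_inv_smul]
  exact h.mem_of_sub ha _

theorem idxE (h : FW T B p) : (ce M B γ).index = 4 := by
  rw [ce, AddSubgroup.index_comap_of_surjective _ (MulAction.surjective γ), h.idx]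

theorem smul_dd_g (h : FW T B p) (r : Pr B b γ) {m : M} (hm : m ∈ dd M B γ) : γ • m = m := by
  have h1 : (γ * γ) • m = m := by
    rw [r.g_sq h, mul_smul, smul_ce r.hb hm.2, hm.1 b r.hb]
  obtain ⟨k, hk⟩ := r.odd
  have h2 : ∀ j : ℕ, ((γ * γ) ^ j) • m = m := by
    intro j
    induction j with
    | zero => rw [pow_zero, one_smul]
    | succ j ih => rw [pow_succ, mul_smul, h1, ih]
  have h3 := h2 (k + 1)
  rwa [← sq, ← pow_mul, show 2 * (k + 1) = orderOf γ + 1 by omega, pow_succ, pow_orderOf_eq_one, one_mul] at h3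

theorem smul_dd_inv (h : FW T B p) (r : Pr B b γ) {m : M} (hm : m ∈ dd M B γ) : γ⁻¹ • m = m := by
  rw [inv_smul_eq_iff, r.smul_dd_g h hm]

/-- the sum trick -/
theorem sum_fix {V : Type*} [AddCommGroup V] [DistribMulAction H V] (hbb : b * b = 1)
    (r : Pr B b γ) {m : V} (hm : b • m = m) : ∃ x : V, b • (m + (b • x + x)) = m + (b • x + x) ∧
      γ • (m + (b • x + x)) = m + (b • x + x) := by
  obtain ⟨k, hk⟩ := r.odd
  set f : ℕ → V := fun i => γ ^ i • m with hf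
  have hbf : ∀ i ≤ 2 * k + 1, b • f i = f (2 * k + 1 - i) := by
    intro i hi
    have h1 : b * γ ^ i = γ ^ (2 * k + 1 - i) * b := by
      have h2 : b * γ ^ i * b⁻¹ = γ⁻¹ ^ i := by rw [← r.inv, conj_pow]
      have h3 : γ⁻¹ ^ i = γ ^ (2 * k + 1 - i) := by
        rw [inv_pow, inv_eq_iff_mul_eq_one, ← pow_add, show i + (2 * k + 1 - i) = 2 * k + 1 by omega, ← hk,
          pow_orderOf_eq_one]
      rw [← h3, ← h2, mul_assoc, mul_assoc, inv_mul_cancel, mul_one]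
    rw [hf]
    change b • (γ ^ i • m) = _
    rw [← mul_smul, h1, mul_smul, hm]
  set x : V := ∑ i ∈ Finset.range k, f (i + 1) with hx
  have hbx : b • x = ∑ i ∈ Finset.range k, f (k + 1 + i) := by
    rw [hx, Finset.smul_sum, ← Finset.sum_range_reflect]
    refine Finset.sum_congr rfl fun i hi => ?_
    have hi' := Finset.mem_range.1 hi
    rw [hbf _ (by omega)]
    congr 1
    omega
  have hsum : m + (b • x + x) = ∑ i ∈ Finset.range (2 * k + 1), f i := by
    rw [show 2 * k + 1 = (k + 1) + k by ring, Finset.sum_range_add, Finset.sum_range_succ', hbx]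
    have : f 0 = m := by
      rw [hf]
      change γ ^ 0 • m = m
      rw [pow_zero, one_smul]
    rw [this]
    abel
  refine ⟨x, ?_, ?_⟩
  · rw [smul_add, smul_add, hm, ← mul_smul, hbb, one_smul, add_comm x]
  · rw [hsum, Finset.smul_sum]
    have h1 : ∀ i, γ • f i = f (i + 1) := by
      intro i
      change γ • (γ ^ i • m) = γ ^ (i + 1) • m
      rw [← mul_smul, pow_succ']
    rw [Finset.sum_congr rfl fun i _ => h1 i, Finset.sum_range_succ, Finset.sum_range_succ']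
    congr 1
    change γ ^ (2 * k + 1) • m = γ ^ 0 • m
    rw [← hk, pow_orderOf_eq_one, pow_zero]

/-- `m ∈ C` : `m = s + [x, b]` with `s ∈ D` -/
theorem exists_sum (h : FW T B p) (r : Pr B b γ) {m : M} (hm : m ∈ cm M B) :
    ∃ x : M, m + (b • x + x) ∈ dd M B γ := by
  obtain ⟨x, h1, h2⟩ := r.sum_fix (h.sq b r.hb) (hm b r.hb)
  have h3 : m + (b • x + x) ∈ cm M B := h.flat b r.hb r.b1 _ h1
  exact ⟨x, h3, mem_ce.2 (by rw [h2]; exact h3)⟩

/-- **`κ(D, z) ≠ 0`** -/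
theorem exists_d [Finite H] [Finite W] (h : FW T B p) (r : Pr B b γ) {z : H} (hz : z ∈ B) (hz1 : z ≠ 1) :
    ∃ w : W, p w ∈ dd M B γ ∧ z • w ≠ w := by
  obtain ⟨w, hw, hzw⟩ := h.nondeg hz hz1
  -- the sum over the lifts
  obtain ⟨x, hx⟩ := r.exists_sum h hw
  obtain ⟨y, rfl⟩ := h.surj x
  refine ⟨w + (b • y + y), by rw [map_add, map_add, h.eqv]; exact hx, fun h1 => hzw ?_⟩
  rw [smul_add, h.quad b r.hb z hz] at h1
  exact add_right_cancel h1

/-- **(∗∗)** : `x` centralises `D` and normalises `C`, so it centralises `B`. -/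
theorem comm_B [Finite H] [Finite W] (h : FW T B p) (r : Pr B b γ) {x : H} (hx : ∀ m ∈ dd M B γ, x • m = m)
    (hC : ∀ m ∈ cm M B, x • m ∈ cm M B) {a : H} (ha : a ∈ B) : x * a = a * x := by
  have h1 : x⁻¹ * a * x ∈ B := h.nc x hC a ha
  by_contra hne
  have hz1 : a * (x⁻¹ * a * x) ≠ 1 := by
    intro h2
    apply hne
    have h3 : x⁻¹ * a * x = a := by rw [← h.inv h1, eq_comm]; exact eq_inv_of_mul_eq_one_left h2
    calc x * a = x * (x⁻¹ * a * x) := by rw [h3]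
      _ = a * x := by group
  obtain ⟨w, hw, hzw⟩ := r.exists_d h (B.mul_mem ha h1) hz1
  apply hzw
  -- `x w = w + e`, `a w = w + f`
  have key : ∀ y : H, y • p w = p w → ∃ e : W, (∀ z : H, z • e = e) ∧ y • w = w + e := by
    intro y hy
    refine ⟨y • w - w, h.fixR _ (by rw [map_sub, h.eqv, hy, sub_self]), by abel⟩
  obtain ⟨e, he, hxe⟩ := key x (hx _ hw)
  obtain ⟨f, hf, haf⟩ := key a (hw.1 a ha)
  have hxi : x⁻¹ • w = w + e := by
    rw [inv_smul_eq_iff, smul_add, he, hxe, add_assoc, h.two, add_zero]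
  have h4 : (x⁻¹ * a * x) • w = w + f := by
    rw [mul_smul, mul_smul, hxe, smul_add, haf, he, smul_add, smul_add, hxi, hf, he]
    rw [show w + e + f + e = w + f + (e + e) by abel, h.two, add_zero]
  rw [mul_smul, h4, smul_add, haf, hf, add_assoc, h.two, add_zero]

theorem comm_E [Finite H] [Finite W] (h : FW T B p) (r : Pr B b γ) {x : H} (hx : ∀ m ∈ dd M B γ, x • m = m)
    (hC : ∀ m ∈ ce M B γ, x • m ∈ ce M B γ) {a : H} (ha : a ∈ B) : x * (γ⁻¹ * a * γ) = (γ⁻¹ * a * γ) * x := by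
  have h1 : (γ * x * γ⁻¹) * a = a * (γ * x * γ⁻¹) := by
    refine r.comm_B h (fun m hm => ?_) (fun m hm => ?_) ha
    · rw [mul_smul, mul_smul, r.smul_dd_inv h hm, hx m hm, r.smul_dd_g h hm]
    · rw [mul_smul, mul_smul]
      exact hC _ (by rw [mem_ce, smul_inv_smul]; exact hm)
  calc x * (γ⁻¹ * a * γ) = γ⁻¹ * ((γ * x * γ⁻¹) * a) * γ := by group
    _ = γ⁻¹ * (a * (γ * x * γ⁻¹)) * γ := by rw [h1]
    _ = _ := by group

theorem smul_dd_conj {a : H} (ha : a ∈ B) {m : M} (hm : m ∈ dd M B γ) : (γ⁻¹ * a * γ) • m = m :=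
  smul_ce ha hm.2

theorem c_ne (h : FW T B p) (r : Pr B b γ) : b * (γ⁻¹ * b * γ) ≠ (γ⁻¹ * b * γ) * b := by
  intro h1
  have hc : (γ⁻¹ * b * γ) * (γ⁻¹ * b * γ) = 1 := by
    calc (γ⁻¹ * b * γ) * (γ⁻¹ * b * γ) = γ⁻¹ * (b * b) * γ := by group
      _ = 1 := by rw [h.sq b r.hb]; group
  have h2 : (γ * γ) * (γ * γ) = 1 := by
    rw [r.g_sq h]
    nth_rw 2 [h1]
    calc b * (γ⁻¹ * b * γ) * (γ⁻¹ * b * γ * b) = b * ((γ⁻¹ * b * γ) * (γ⁻¹ * b * γ)) * b := by group
      _ = 1 := by rw [hc, mul_one, h.sq b r.hb]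
  have h3 : γ ^ 4 = 1 := by
    rw [← h2]
    simp only [pow_succ, pow_zero, one_mul, mul_assoc]
  have h4 := orderOf_dvd_of_pow_eq_one h3
  have h5 : Nat.Coprime (orderOf γ) (2 ^ 2) := by
    rw [Nat.coprime_pow_right_iff (by norm_num)]
    exact r.odd.coprime_two_right
  have h6 : orderOf γ = 1 := Nat.Coprime.eq_one_of_dvd h5 h4
  exact r.ne (orderOf_eq_one_iff.1 h6)

/-- **no element of `(B^γ)#` normalises `C`** -/
theorem not_stab [Finite H] [Finite W] (h : FW T B p) (r : Pr B b γ) {a : H} (ha : a ∈ B) (ha1 : a ≠ 1) :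
    ¬ ∀ m ∈ cm M B, (γ⁻¹ * a * γ) • m ∈ cm M B := by
  intro hC
  have h1 : (γ⁻¹ * a * γ) * b = b * (γ⁻¹ * a * γ) := r.comm_B h (fun m hm => smul_dd_conj ha hm) hC r.hb
  refine r.c_ne h (r.comm_E h (x := b) (fun m hm => hm.1 b r.hb) (fun m hm => ?_) r.hb)
  have h2 : (γ⁻¹ * a * γ) • (b • m + m) = b • m + m := by
    rw [smul_add, ← mul_smul, h1, mul_smul, smul_ce ha hm]
  have h3 := (ce M B γ).sub_mem (flatE h ha ha1 h2) hm
  rwa [add_sub_cancel_right] at h3

theorem exists_third (h : FW T B p) {b : H} (hb : b ∈ B) (hb1 : b ≠ 1) : ∃ a ∈ B, a ≠ 1 ∧ a ≠ b ∧ b * a ≠ 1 := by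
  have h1 : (Subgroup.zpowers b) ≤ B := by rwa [zpowers_le]
  have h2 : Nat.card (Subgroup.zpowers b) = 2 := by
    rw [Nat.card_zpowers]
    exact orderOf_eq_prime (by rw [pow_two, h.sq b hb]) hb1
  obtain ⟨a, haB, ha⟩ : ∃ a ∈ B, a ∉ Subgroup.zpowers b := by
    by_contra hcon
    push Not at hcon
    have h3 : B = Subgroup.zpowers b := le_antisymm (fun x hx => hcon x hx) h1
    have h4 := h.card
    rw [h3, h2] at h4
    omega
  refine ⟨a, haB, ?_, ?_, ?_⟩
  · rintro rfl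
    exact ha (Subgroup.one_mem _)
  · rintro rfl
    exact ha (Subgroup.mem_zpowers _)
  · intro h3
    rw [mul_eq_one_iff_inv_eq, h.inv hb] at h3
    exact ha (h3 ▸ Subgroup.mem_zpowers b)

theorem card_ce [Finite M] (h : FW T B p) : Nat.card (ce M B γ) = Nat.card (cm M B) := by
  have h1 := (ce M B γ).card_mul_index
  have h2 := (cm M B).card_mul_index
  rw [idxE h] at h1
  rw [h.idx] at h2
  omega

/-- **`|C : D| = 4`** -/
theorem relIndex [Finite H] [Finite W] [Finite M] (h : FW T B p) (r : Pr B b γ) :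
    (ce M B γ).relIndex (cm M B) = 4 := by
  have h0 : (ce M B γ).relIndex (cm M B) ∣ 4 := by
    rw [← idxE (γ := γ) h]
    exact AddSubgroup.relIndex_dvd_index_of_normal _ _
  have h1 : (ce M B γ).relIndex (cm M B) ≠ 1 := by
    intro h1
    rw [AddSubgroup.relIndex_eq_one] at h1
    refine r.not_stab h r.hb r.b1 fun m hm => ?_
    rw [smul_ce r.hb (h1 hm)]
    exact hm
  have h2 : (ce M B γ).relIndex (cm M B) ≠ 2 := by
    intro h2
    have h3 : (cm M B).relIndex (ce M B γ) = 2 := by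
      have e1 := AddSubgroup.relIndex_mul_index (H := cm M B ⊓ ce M B γ) (K := cm M B) inf_le_left
      have e2 := AddSubgroup.relIndex_mul_index (H := cm M B ⊓ ce M B γ) (K := ce M B γ) inf_le_right
      rw [AddSubgroup.inf_relIndex_left, h2, h.idx] at e1
      rw [AddSubgroup.inf_relIndex_right, idxE h, ← e1] at e2
      omega
    obtain ⟨v, hv, hvd⟩ := AddSubgroup.relIndex_eq_two_iff.1 h2
    obtain ⟨v', hv', hvd'⟩ := AddSubgroup.relIndex_eq_two_iff.1 h3
    obtain ⟨a, ha, ha1, -, hba⟩ := exists_third h r.hb r.b1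
    have hor : ∀ {m : M}, m ∈ ce M B γ → m ∉ cm M B → m + v' ∈ cm M B := fun {m} hm hm' => by
      rcases hvd' m hm with h5 | h5
      · exact h5.1
      · exact absurd h5.1 hm'
    obtain ⟨a', ha', ha1', hva⟩ : ∃ a' ∈ B, a' ≠ 1 ∧ (γ⁻¹ * a' * γ) • v + v ∈ cm M B := by
      by_cases c1 : (γ⁻¹ * b * γ) • v + v ∈ cm M B
      · exact ⟨b, r.hb, r.b1, c1⟩
      by_cases c2 : (γ⁻¹ * a * γ) • v + v ∈ cm M B
      · exact ⟨a, ha, ha1, c2⟩
      refine ⟨b * a, B.mul_mem r.hb ha, hba, ?_⟩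
      have e1 := hor (quadE h r.hb v) c1
      have e2 := hor (quadE h ha v) c2
      have e3 := (cm M B).add_mem e1 e2
      have e4 : (γ⁻¹ * b * γ) • ((γ⁻¹ * a * γ) • v + v) = (γ⁻¹ * a * γ) • v + v := smul_ce r.hb (quadE h ha v)
      have e5 : (γ⁻¹ * (b * a) * γ) • v = (γ⁻¹ * b * γ) • ((γ⁻¹ * a * γ) • v + v) + (γ⁻¹ * b * γ) • v := by
        rw [smul_add, ← mul_smul, add_assoc, h.twoM, add_zero]
        congr 1
        group
      rw [e5, e4]
      convert e3 using 1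
      rw [show (γ⁻¹ * b * γ) • v + v + v' + ((γ⁻¹ * a * γ) • v + v + v') =
        (γ⁻¹ * a * γ) • v + v + (γ⁻¹ * b * γ) • v + v + (v' + v') by abel, h.twoM, add_zero]
    refine r.not_stab h ha' ha1' fun m hm => ?_
    rcases hvd m hm with h5 | h5
    · have h6 : (γ⁻¹ * a' * γ) • (m + v) = m + v := smul_ce ha' h5.1
      rw [smul_add] at h6
      have h7 : (γ⁻¹ * a' * γ) • m = m + ((γ⁻¹ * a' * γ) • v + v) := by
        have := congrArg (fun t => t + (γ⁻¹ * a' * γ) • v) h6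
        simp only [add_assoc, h.twoM, add_zero] at this
        rw [this]
        abel
      rw [h7]
      exact (cm M B).add_mem hm hva
    · rw [smul_ce ha' h5.1]
      exact hm
  have h3 : (ce M B γ).relIndex (cm M B) ∈ Nat.divisors 4 := Nat.mem_divisors.2 ⟨h0, by norm_num⟩
  have h4 : Nat.divisors 4 = {1, 2, 4} := by decide
  rw [h4] at h3
  simp only [Finset.mem_insert, Finset.mem_singleton] at h3
  tauto

/-- `x ∈ C_H(D)` trivial on `M / D`: `x` fixes `C` -/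
theorem fix_C [Finite H] [Finite W] (h : FW T B p) (r : Pr B b γ) {x : H} (hx : ∀ m ∈ dd M B γ, x • m = m)
    (hM : ∀ m : M, x • m + m ∈ dd M B γ) {m : M} (hm : m ∈ cm M B) : x • m = m := by
  have hC : ∀ m ∈ cm M B, x • m ∈ cm M B := by
    intro m hm
    have h1 := (cm M B).sub_mem (hM m).1 hm
    rwa [add_sub_cancel_right] at h1
  have h1 := r.comm_B h hx hC r.hb
  obtain ⟨y, hy⟩ := r.exists_sum h hm
  have h2 : x • (b • y + y) = b • y + y := by
    have h3 : b • (x • y + y) = x • y + y := (hM y).1 b r.hb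
    rw [smul_add] at h3
    have h4 : b • (x • y) = x • y + y + b • y := by
      have := congrArg (fun t => t + b • y) h3
      simpa only [add_assoc, h.twoM, add_zero] using this
    rw [smul_add, ← mul_smul, h1, mul_smul, h4]
    rw [show x • y + y + b • y + x • y = b • y + y + (x • y + x • y) by abel, h.twoM, add_zero]
  have h3 := hx _ hy
  rw [smul_add, h2] at h3
  exact add_right_cancel h3

/-- **(3)** `C_H(D) ∩ C_H(M / D)` fixes `C` and `C_E`. -/
theorem fix_E [Finite H] [Finite W] (h : FW T B p) (r : Pr B b γ) {x : H} (hx : ∀ m ∈ dd M B γ, x • m = m)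
    (hM : ∀ m : M, x • m + m ∈ dd M B γ) {m : M} (hm : m ∈ ce M B γ) : x • m = m := by
  have h1 : (γ * x * γ⁻¹) • (γ • m) = γ • m := by
    refine r.fix_C h (fun d hd => ?_) (fun y => ?_) hm
    · rw [mul_smul, mul_smul, r.smul_dd_inv h hd, hx d hd, r.smul_dd_g h hd]
    · have h2 := hM (γ⁻¹ • y)
      have h3 : (γ * x * γ⁻¹) • y + y = x • (γ⁻¹ • y) + γ⁻¹ • y := by
        rw [← r.smul_dd_g h h2, smul_add, smul_inv_smul, mul_smul, mul_smul]
      rw [h3]
      exact h2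
  rw [mul_smul, mul_smul, inv_smul_smul] at h1
  exact smul_left_cancel γ h1

/-- `x ∈ C`, `[x, c] ∈ D` ==> `x ∈ D` -/
theorem mem_dd (h : FW T B p) (r : Pr B b γ) {x : M} (hx : x ∈ cm M B)
    (hd : (γ⁻¹ * b * γ) • x + x ∈ dd M B γ) : x ∈ dd M B γ := by
  set d := (γ⁻¹ * b * γ) • x + x with hdd
  have h1 : (γ⁻¹ * b * γ) • x = x + d := by
    rw [hdd, add_comm x, add_assoc, h.twoM, add_zero]
  have h2 : (γ * γ) • x = x + d := by
    rw [r.g_sq h, mul_smul, h1, smul_add, hx b r.hb, hd.1 b r.hb]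
  have h3 : (γ * γ) • d = d := by rw [mul_smul, r.smul_dd_g h hd, r.smul_dd_g h hd]
  have h4 : d = 0 := odd_add h2 h3 (h.twoM d) r.odd (by rw [← sq, ← pow_mul, mul_comm, pow_mul, pow_orderOf_eq_one, one_pow])
  refine ⟨hx, flatE h r.hb r.b1 ?_⟩
  rw [h1, h4, add_zero]

/-- `[·, c]` -/
def gm (M : Type*) [AddCommGroup M] [DistribMulAction H M] (c : H) : M →+ M where
  toFun m := c • m + m
  map_zero' := by rw [smul_zero, add_zero]
  map_add' x y := by rw [smul_add]; abel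

theorem gm_apply (c : H) (m : M) : gm M c m = c • m + m := rfl

theorem gm_ce (h : FW T B p) (r : Pr B b γ) {m : M} (hm : m ∈ ce M B γ) : gm M (γ⁻¹ * b * γ) m = 0 := by
  rw [gm_apply, smul_ce r.hb hm, h.twoM]

/-- **`M = C + [C, c]`** -/
theorem exists_rep [Finite H] [Finite W] [Finite M] (h : FW T B p) (r : Pr B b γ) (m : M) :
    ∃ x ∈ cm M B, ∃ z ∈ cm M B, m = x + gm M (γ⁻¹ * b * γ) z := by
  set G := (cm M B).map (gm M (γ⁻¹ * b * γ)) with hG
  have hker : (gm M (γ⁻¹ * b * γ)).ker = ce M B γ := by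
    ext m
    rw [AddMonoidHom.mem_ker]
    refine ⟨fun h1 => flatE h r.hb r.b1 ?_, fun h1 => r.gm_ce h h1⟩
    rw [gm_apply] at h1
    rw [eq_neg_of_add_eq_zero_left h1, h.negM]
  have h1 : Nat.card G = 4 := by
    rw [hG, ← AddSubgroup.relIndex_ker, hker, r.relIndex h]
  have h2 : cm M B ⊓ G = ⊥ := by
    rw [eq_bot_iff]
    rintro _ ⟨h3, ⟨x, hx, rfl⟩⟩
    have h4 : x ∈ dd M B γ := r.mem_dd h hx ⟨h3, quadE h r.hb x⟩
    exact AddSubgroup.mem_bot.2 (r.gm_ce h h4.2)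
  have h3 : cm M B ⊔ G = ⊤ := by
    have h4 := AddSubgroup.relIndex_mul_index (H := cm M B) (K := cm M B ⊔ G) le_sup_left
    rw [AddSubgroup.relIndex_sup_left, ← AddSubgroup.inf_relIndex_right, h2, AddSubgroup.relIndex_bot_left, h1,
      h.idx] at h4
    rw [← AddSubgroup.index_eq_one]
    omega
  obtain ⟨x, hx, _, ⟨z, hz, rfl⟩, h5⟩ := AddSubgroup.mem_sup.1 (h3 ▸ AddSubgroup.mem_top m)
  exact ⟨x, hx, z, hz, h5.symm⟩

/-- **(3)** `C_H(D) ∩ C_H(M / D) = 1` -/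
theorem eq_one [Finite H] [Finite W] [Finite M] (h : FW T B p) (r : Pr B b γ) {x : H}
    (hx : ∀ m ∈ dd M B γ, x • m = m) (hM : ∀ m : M, x • m + m ∈ dd M B γ) : x = 1 := by
  refine h.faith x fun m => ?_
  obtain ⟨y, hy, z, hz, rfl⟩ := r.exists_rep h m
  rw [smul_add, r.fix_C h hx hM hy, gm_apply, r.fix_E h hx hM (quadE h r.hb z)]

end Pr

end Cfsg.Agent.Omega.FOne.FourW
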